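import Cfsg.Agent.H583.DPi.CentA
import Cfsg.Agent.H954.DR.CentB
import Cfsg.Agent.H715.Mon.Exact

/-!
# S4247, sporadic rows: self-centralising elements of the Baby Monster (helper115)

`SThree.{0}` is `fun _ _ _ X hX hC => S3331.result X hX hC`.
-/

set_option autoImplicit false

namespace Cfsg.Agent.H115.DPi

open Subgroup Cfsg Cfsg.Agent.H583.DPi
open Cfsg.Agent.H715.Mon.Grp (SThree)

universe u

variable {S : Type u} [Group S] [Finite S]

theorem c_b [IsSimpleGroup S] (hS : SThree.{0}) (h : Spor.IsoB S) : HasC S 47 ∧ HasC S 31 := by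
  have hc := NotCT.Orders.b h
  exact ⟨HasC.of_all (by norm_num) (by rw [hc]; norm_num) fun x hx => H954.DR.CentB.cent47 h hx,
    HasC.of_all (by norm_num) (by rw [hc]; norm_num) fun x hx => H715.Mon.Exact.B.cent31 hS h hx⟩

end Cfsg.Agent.H115.DPi
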