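import Cfsg.Agent.H583.DPi.CentA
import Cfsg.Agent.H655.LySixtySeven
import Cfsg.Agent.H655.LyThirtySeven

/-!
# S4247, sporadic rows: self-centralising elements of the Lyons group (helper115)
-/

set_option autoImplicit false

namespace Cfsg.Agent.H115.DPi

open Subgroup Cfsg Cfsg.Agent.H583.DPi
open Cfsg.Agent.H995.CopEngine (AllKnown)

universe u

variable {S : Type u} [Group S] [Finite S]

theorem c_ly [IsSimpleGroup S] (hK : AllKnown.{0}) (h : Spor.IsoLy S) : HasC S 67 ∧ HasC S 37 := by
  have hc := NotCT.Orders.ly h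
  refine ⟨?_, HasC.of_all (by norm_num) (by rw [hc]; norm_num) fun x hx =>
    H655.LyThirtySeven.card_centralizer37 hK h hx⟩
  obtain ⟨e⟩ := h
  have hfin : Finite Spor.Ly := Finite.of_equiv S e.toEquiv
  exact HasC.congr e.symm (HasC.of_all (by norm_num) (by rw [NotCT.Orders.ly ⟨MulEquiv.refl _⟩]; norm_num)
    (H655.LySixtySeven.sc hK))

end Cfsg.Agent.H115.DPi
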