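import Cfsg.Agent.H583.DPi.CentA
import Cfsg.Agent.H568.SC.Mon
import Cfsg.Agent.H979.OreM.Loc71
import Cfsg.Agent.H715.Mon.Exact
import Cfsg.Agent.H241.NHThree

/-!
# S4247, sporadic rows: self-centralising elements of the Monster (helper115)

`SThree.{0}` is `fun _ _ _ X hX hC => S3331.result X hX hC`.
-/

set_option autoImplicit false

namespace Cfsg.Agent.H115.DPi

open Subgroup Cfsg Cfsg.Agent.H583.DPi
open Cfsg.Agent.H995.CopEngine (AllKnown)
open Cfsg.Agent.H715.Mon.Grp (SThree)

universe u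

variable {S : Type u} [Group S] [Finite S]

theorem c_m [IsSimpleGroup S] (hK : AllKnown.{0}) (hS : SThree.{0}) (h : Spor.IsoM S) : HasC S 59 ∧ HasC S 71 := by
  have hc := NotCT.Orders.m h
  have h3 : H241.NH.Three.{0} := H241.NH.three_of fun X hX hC => hS _ X hX hC
  exact ⟨HasC.of_all (by norm_num) (by rw [hc]; norm_num) fun x hx =>
      H715.Mon.Exact.transport h (fun y hy => H568.SC.Mon.sc_model hK y hy) hx,
    HasC.of_all (by norm_num) (by rw [hc]; norm_num) fun x hx =>
      H715.Mon.Exact.transport h (fun _ hy => H979.OreM.cent_71 hK h3 hy) hx⟩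

end Cfsg.Agent.H115.DPi
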